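import Groth.Agent.ComodLib.HopfSubInv
import Groth.Agent.ComodLib.Integral
import Groth.Agent.ComodLib.Antipode

/-!
# Linear reductivity in exact sequences

For `AQ ↪ AG ↠ AK` exact, invariant integrals are transported in both directions: the integral of `AK` is the
counit composed with the equivariant projection of `AG` onto `AQ`, and that of `AG` is the composite of those
of `AQ` and `AK`.
-/

set_option autoImplicit false

universe u

open TensorProduct WithConv

noncomputable section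

namespace Groth.Agent.LRExact

open Groth.Agent.ComodLib

variable {k : Type u} [Field k] {AQ AG AK : Type u} [CommRing AQ] [HopfAlgebra k AQ]
  [CommRing AG] [HopfAlgebra k AG] [CommRing AK] [HopfAlgebra k AK]
  (φ : AQ →ₐc[k] AG) (ψ : AG →ₐc[k] AK)

local notation "Δ" => Coalgebra.comul (R := k)

/-- The image of `AQ`. -/
def B : Submodule k AG := LinearMap.range (φ : AQ →ₗ[k] AG)

theorem comul_phi (q : AQ) : Δ (φ q) = TensorProduct.map (φ : AQ →ₗ[k] AG) (φ : AQ →ₗ[k] AG) (Δ q) :=
  (CoalgHomClass.map_comp_comul_apply φ q).symm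

theorem comul_psi (a : AG) : Δ (ψ a) = TensorProduct.map (ψ : AG →ₗ[k] AK) (ψ : AG →ₗ[k] AK) (Δ a) :=
  (CoalgHomClass.map_comp_comul_apply ψ a).symm

theorem isSubcomod_B : HopfRep.IsSubcomod (k := k) (A := AG) (B φ) := by
  rintro _ ⟨q, rfl⟩
  refine ⟨TensorProduct.map (LinearMap.rangeRestrict (φ : AQ →ₗ[k] AG)) (φ : AQ →ₗ[k] AG) (Δ q), ?_⟩
  show _ = Δ (φ q)
  rw [comul_phi]
  induction Δ q using TensorProduct.induction_on with
  | zero => rw [map_zero, map_zero]; exact map_zero _
  | tmul a b => rfl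
  | add a b ha hb => rw [map_add, map_add, ← ha, ← hb]; exact map_add _ _ _

variable {φ ψ}
variable (hker : RingHom.ker (ψ : AG →ₐ[k] AK) =
      Ideal.map (φ : AQ →ₐ[k] AG) (RingHom.ker (Bialgebra.counitAlgHom k AQ)))

include hker in
theorem psi_phi (q : AQ) : ψ (φ q) = algebraMap k AK (Coalgebra.counit (R := k) q) := by
  have h : φ (q - algebraMap k AQ (Coalgebra.counit (R := k) q)) ∈ RingHom.ker (ψ : AG →ₐ[k] AK) := by
    rw [hker]
    refine Ideal.mem_map_of_mem _ ?_
    rw [RingHom.mem_ker, Bialgebra.counitAlgHom_apply, map_sub, Bialgebra.counit_algebraMap, sub_self]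
  rw [RingHom.mem_ker] at h
  have h2 : (ψ : AG →ₐ[k] AK) ((φ : AQ →ₐ[k] AG) (q - algebraMap k AQ (Coalgebra.counit (R := k) q))) = 0 := h
  rw [map_sub, map_sub, AlgHom.commutes, AlgHom.commutes, sub_eq_zero] at h2
  exact h2

include hker in
/-- An element invariant under the kernel on the right comes from the quotient. -/
theorem mem_B_of_right [Algebra.FiniteType k AQ] [Algebra.FiniteType k AG] (hφ : Function.Injective φ)
    (hψ : Function.Surjective ψ) {a : AG} (h : (ψ : AG →ₗ[k] AK).lTensor AG (Δ a) = a ⊗ₜ[k] (1 : AK)) :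
    a ∈ B φ := by
  have hex : Function.Exact (LinearMap.ker (ψ : AG →ₗ[k] AK)).subtype (ψ : AG →ₗ[k] AK) :=
    LinearMap.exact_subtype_ker_map _
  have h1 : (ψ : AG →ₗ[k] AK).lTensor AG (Δ a - a ⊗ₜ[k] (1 : AG)) = 0 := by
    rw [map_sub, h, LinearMap.lTensor_tmul]
    simp
  obtain ⟨z, hz⟩ := ((lTensor_exact AG hex hψ) _).1 h1
  have hI : ∀ x : LinearMap.ker (ψ : AG →ₗ[k] AK), (x : AG) ∈
      (Ideal.map (φ : AQ →+* AG) (RingHom.ker (Bialgebra.counitAlgHom k AQ))).restrictScalars k := fun x => by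
    have hx : (x : AG) ∈ RingHom.ker (ψ : AG →ₐ[k] AK) := x.2
    rw [hker] at hx
    exact hx
  obtain ⟨c, hc⟩ := mem_range_of_comul_sub_mem φ hφ a
    ⟨(LinearMap.codRestrict _ (LinearMap.ker (ψ : AG →ₗ[k] AK)).subtype hI).lTensor AG z, by
      rw [← hz, ← LinearMap.comp_apply, ← LinearMap.lTensor_comp]
      rfl⟩
  exact ⟨c, hc⟩

include hker in
/-- An element invariant under the kernel on the left comes from the quotient. -/
theorem mem_B_of_left [Algebra.FiniteType k AQ] [Algebra.FiniteType k AG] (hφ : Function.Injective φ)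
    (hψ : Function.Surjective ψ) {a : AG} (h : (ψ : AG →ₗ[k] AK).rTensor AG (Δ a) = (1 : AK) ⊗ₜ[k] a) :
    a ∈ B φ := by
  have hS : HopfAlgebra.antipode k a ∈ B φ := by
    refine mem_B_of_right hker hφ hψ ?_
    rw [comul_antipode]
    have key : ∀ z : AG ⊗[k] AG, (ψ : AG →ₗ[k] AK).lTensor AG
        (TensorProduct.map (HopfAlgebra.antipode k) (HopfAlgebra.antipode k) (TensorProduct.comm k AG AG z)) =
        TensorProduct.map (HopfAlgebra.antipode k) (HopfAlgebra.antipode k)
          (TensorProduct.comm k AK AG ((ψ : AG →ₗ[k] AK).rTensor AG z)) := fun z => by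
      induction z using TensorProduct.induction_on with
      | zero => simp
      | tmul p q => simp [GrpSchLib.HopfGalois.antipode_bialgHom ψ p]
      | add p q hp hq => simp only [map_add, hp, hq]
    rw [key, h]
    simp
  obtain ⟨q, hq⟩ := hS
  refine ⟨HopfAlgebra.antipode k q, ?_⟩
  show φ (HopfAlgebra.antipode k q) = a
  rw [← GrpSchLib.HopfGalois.antipode_bialgHom φ q, show φ q = HopfAlgebra.antipode k a from hq,
    antipode_antipode_apply]

include hker in
theorem psi_of_mem_B {a : AG} (ha : a ∈ B φ) : ψ a = algebraMap k AK (Coalgebra.counit (R := k) a) := by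
  obtain ⟨q, rfl⟩ := ha
  show ψ (φ q) = algebraMap k AK (Coalgebra.counit (R := k) (φ q))
  rw [psi_phi hker, CoalgHomClass.counit_comp_apply]

include hker in
theorem right_of_mem_B {a : AG} (ha : a ∈ B φ) : (ψ : AG →ₗ[k] AK).lTensor AG (Δ a) = a ⊗ₜ[k] (1 : AK) := by
  obtain ⟨q, rfl⟩ := ha
  show _ = φ q ⊗ₜ[k] (1 : AK)
  rw [show ((φ : AQ →ₗ[k] AG) q) = φ q from rfl, comul_phi]
  have key : ∀ w : AQ ⊗[k] AQ, (ψ : AG →ₗ[k] AK).lTensor AG (TensorProduct.map (φ : AQ →ₗ[k] AG) (φ : AQ →ₗ[k] AG) w) =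
      TensorProduct.map (φ : AQ →ₗ[k] AG) (Algebra.linearMap k AK) ((Coalgebra.counit (R := k)).lTensor AQ w) := fun w => by
    induction w using TensorProduct.induction_on with
    | zero => simp
    | add p r hp hr => simp only [map_add, hp, hr]
    | tmul p r =>
      show φ p ⊗ₜ[k] ψ (φ r) = φ p ⊗ₜ[k] algebraMap k AK (Coalgebra.counit (R := k) r)
      rw [psi_phi hker]
  rw [key, Coalgebra.lTensor_counit_comul]
  simp

/-- `(f ⊗ id) Δ`. -/
def lin {M : Type u} [AddCommGroup M] [Module k M] (f : AG →ₗ[k] M) : AG →ₗ[k] M ⊗[k] AG := f.rTensor AG ∘ₗ Δ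

/-- `(ℓ ⊗ id) Δ`. -/
def conv (ℓ : AG →ₗ[k] k) : AG →ₗ[k] AG := (TensorProduct.lid k AG).toLinearMap ∘ₗ lin ℓ

theorem counit_conv (ℓ : AG →ₗ[k] k) (a : AG) : Coalgebra.counit (R := k) (conv ℓ a) = ℓ a := by
  have e : ∀ z : AG ⊗[k] AG, Coalgebra.counit (R := k) (TensorProduct.lid k AG (ℓ.rTensor AG z)) =
      ℓ (TensorProduct.rid k AG ((Coalgebra.counit (R := k)).lTensor AG z)) := fun z => by
    induction z using TensorProduct.induction_on with
    | zero => simp
    | tmul p q => simp [mul_comm]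
    | add p q hp hq => simp only [map_add, hp, hq]
  refine (e _).trans ?_
  rw [Coalgebra.lTensor_counit_comul]
  simp

theorem comul_conv (ℓ : AG →ₗ[k] k) (a : AG) : Δ (conv ℓ a) = (conv ℓ).rTensor AG (Δ a) := by
  have e1 : ∀ z : AG ⊗[k] AG, Δ (TensorProduct.lid k AG (ℓ.rTensor AG z)) =
      TensorProduct.lid k (AG ⊗[k] AG) (ℓ.rTensor (AG ⊗[k] AG) ((Δ).lTensor AG z)) := fun z => by
    induction z using TensorProduct.induction_on with
    | zero => simp
    | tmul p q => simp
    | add p q hp hq => simp only [map_add, hp, hq]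
  have e2 : ∀ z : AG ⊗[k] AG, (conv ℓ).rTensor AG z =
      TensorProduct.lid k (AG ⊗[k] AG) (ℓ.rTensor (AG ⊗[k] AG) (TensorProduct.assoc k AG AG AG ((Δ).rTensor AG z))) := fun z => by
    induction z using TensorProduct.induction_on with
    | zero => simp
    | add p q hp hq => simp only [map_add, hp, hq]
    | tmul p q =>
      simp only [LinearMap.rTensor_tmul, conv, lin, LinearMap.comp_apply, LinearEquiv.coe_coe]
      induction Δ p using TensorProduct.induction_on with
      | zero => simp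
      | add r s hr hs => simp only [map_add, add_tmul, hr, hs]
      | tmul r s => simp [TensorProduct.smul_tmul']
  rw [e2, Coalgebra.coassoc_apply]
  exact e1 _

theorem conv_left (ℓ : AG →ₗ[k] k) (a : AG) {C : Submodule k AG} {z : C ⊗[k] AG}
    (hz : C.subtype.rTensor AG z = Δ a)
    (hℓ : ∀ c ∈ C, TensorProduct.lid k AK (TensorProduct.map ℓ (ψ : AG →ₗ[k] AK) (Δ c)) = ℓ c • (1 : AK)) :
    (ψ : AG →ₗ[k] AK).rTensor AG (Δ (conv ℓ a)) = (1 : AK) ⊗ₜ[k] conv ℓ a := by
  have e : conv ℓ a = TensorProduct.lid k AG (ℓ.rTensor AG (C.subtype.rTensor AG z)) := by rw [hz]; rfl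
  rw [comul_conv, e, ← hz]
  clear e hz
  induction z using TensorProduct.induction_on with
  | zero => simp
  | add p q hp hq => simp only [map_add, tmul_add, hp, hq]
  | tmul c q =>
    simp only [LinearMap.rTensor_tmul, Submodule.subtype_apply, TensorProduct.lid_tmul]
    rw [TensorProduct.tmul_smul, TensorProduct.smul_tmul', ← hℓ c c.2]
    congr 1
    simp only [conv, lin, LinearMap.comp_apply, LinearEquiv.coe_coe]
    induction Δ (c : AG) using TensorProduct.induction_on with
    | zero => simp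
    | add r s hr hs => simp only [map_add, hr, hs]
    | tmul r s => simp

variable [Algebra.FiniteType k AQ] [Algebra.FiniteType k AG]

include hker in
theorem eq_zero_of_invariant (hss : HopfRep.IsSemisimpleComod k AG AG) (hφ : Function.Injective φ)
    (hψ : Function.Surjective ψ) {C : Submodule k AG} (hC : HopfRep.IsSubcomod (k := k) (A := AG) C)
    (hBC : Disjoint (B φ) C) (ℓ : AG →ₗ[k] k)
    (hℓ : ∀ c ∈ C, TensorProduct.lid k AK (TensorProduct.map ℓ (ψ : AG →ₗ[k] AK) (Δ c)) = ℓ c • (1 : AK))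
    {c : AG} (hc : c ∈ C) : ℓ c = 0 := by
  have hmem : ∀ x ∈ C, conv ℓ x ∈ B φ := fun x hx => by
    obtain ⟨z, hz⟩ := hC x hx
    exact mem_B_of_left hker hφ hψ (conv_left ℓ x hz hℓ)
  have hco : Hoch.IsComodHom AG (conv ℓ) := LinearMap.ext fun x => comul_conv ℓ x
  let W : Submodule k AG := C ⊓ LinearMap.ker (conv ℓ)
  obtain ⟨W', hW', hWW'⟩ := hss W (isSubcomod_inf hC (isSubcomod_ker hco))
  let C₁ : Submodule k AG := C ⊓ W'
  have hC₁ : HopfRep.IsSubcomod (k := k) (A := AG) C₁ := isSubcomod_inf hC hW'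
  have hinj : Function.Injective ((conv ℓ) ∘ₗ C₁.subtype) := by
    rw [injective_iff_map_eq_zero]
    rintro ⟨x, hx1, hx2⟩ h0
    refine Subtype.ext ((Submodule.mem_bot k).1 (hWW'.disjoint.le_bot ⟨⟨hx1, h0⟩, hx2⟩))
  have hC₁0 : C₁ = ⊥ := by
    refine (Submodule.eq_bot_iff _).2 fun x hx => (Submodule.mem_bot k).1 (hBC.le_bot ⟨?_, hx.1⟩)
    refine mem_B_of_right hker hφ hψ ?_
    obtain ⟨z, hz⟩ := hC₁ x hx
    have hz' : C₁.subtype.rTensor AG z = Δ x := hz
    let g : C₁ ⊗[k] AG →ₗ[k] C₁ ⊗[k] AK := (ψ : AG →ₗ[k] AK).lTensor C₁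
    have h2 : (conv ℓ ∘ₗ C₁.subtype).rTensor AK (g z) =
        (conv ℓ ∘ₗ C₁.subtype).rTensor AK ((⟨x, hx⟩ : C₁) ⊗ₜ[k] (1 : AK)) := by
      have h3 : ∀ w : C₁ ⊗[k] AG, (conv ℓ ∘ₗ C₁.subtype).rTensor AK (g w) =
          (ψ : AG →ₗ[k] AK).lTensor AG ((conv ℓ).rTensor AG (C₁.subtype.rTensor AG w)) := fun w => by
        induction w using TensorProduct.induction_on with
        | zero => simp
        | add p q hp hq => simp only [map_add, hp, hq]
        | tmul p q => rfl
      rw [h3, hz', ← comul_conv, right_of_mem_B hker (hmem x hx.1)]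
      rfl
    have h4 := Module.Flat.rTensor_preserves_injective_linearMap _ hinj h2
    rw [← hz']
    have h5 : ∀ w : C₁ ⊗[k] AG, (ψ : AG →ₗ[k] AK).lTensor AG (C₁.subtype.rTensor AG w) =
        C₁.subtype.rTensor AK (g w) := fun w => by
      induction w using TensorProduct.induction_on with
      | zero => simp
      | add p q hp hq => simp only [map_add, hp, hq]
      | tmul p q => rfl
    rw [h5, h4]
    rfl
  obtain ⟨y, hy, y', hy', hsum⟩ := Submodule.mem_sup.1 (hWW'.codisjoint.eq_top ▸ Submodule.mem_top (x := c))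
  have hy'C : y' ∈ C₁ := ⟨by rw [show y' = c - y by rw [← hsum]; simp]; exact C.sub_mem hc hy.1, hy'⟩
  rw [hC₁0, Submodule.mem_bot] at hy'C
  rw [hy'C, add_zero] at hsum
  subst hsum
  have h6 : conv ℓ y = 0 := hy.2
  rw [← counit_conv ℓ y, h6, map_zero]

include hker in
theorem exists_integral_kernel (hG : HopfRep.IsLinearlyReductive k AG) (hφ : Function.Injective φ)
    (hψ : Function.Surjective ψ) : ∃ α : AK →ₗ[k] k, IsIntegral k α ∧ α 1 = 1 := by
  have hss : HopfRep.IsSemisimpleComod k AG AG := isSemisimpleComod_of_isLinearlyReductive hG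
  obtain ⟨C, hC, hBC⟩ := hss (B φ) (isSubcomod_B φ)
  let lam : AG →ₗ[k] k := Coalgebra.counit (R := k) ∘ₗ (B φ).subtype ∘ₗ Submodule.projectionOnto _ C hBC
  have hlB : ∀ b ∈ B φ, lam b = Coalgebra.counit (R := k) b := fun b hb => by
    simp only [lam, LinearMap.comp_apply]
    rw [show Submodule.projectionOnto _ C hBC b = ⟨b, hb⟩ from Submodule.projectionOnto_apply_left hBC ⟨b, hb⟩]
    rfl
  have hlC : ∀ c ∈ C, lam c = 0 := fun c hc => by
    simp [lam, Submodule.projectionOnto_apply_right hBC ⟨c, hc⟩]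
  let Lm : AG ⊗[k] AG →ₗ[k] AK := (TensorProduct.lid k AK).toLinearMap ∘ₗ TensorProduct.map lam (ψ : AG →ₗ[k] AK)
  have hinv : ∀ a, Lm (Δ a) = lam a • (1 : AK) := fun a => by
    obtain ⟨b, hb, c, hc, rfl⟩ := Submodule.mem_sup.1 (hBC.codisjoint.eq_top ▸ Submodule.mem_top (x := a))
    rw [map_add, map_add, map_add, add_smul, hlC c hc, zero_smul, hlB b hb]
    congr 1
    · obtain ⟨z, hz⟩ := isSubcomod_B φ b hb
      have hz' : (B φ).subtype.rTensor AG z = Δ b := hz
      have e : ψ b = Coalgebra.counit (R := k) b • (1 : AK) := by rw [psi_of_mem_B hker hb, Algebra.algebraMap_eq_smul_one]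
      rw [← e, ← hz']
      have key : ∀ w : (B φ) ⊗[k] AG, Lm ((B φ).subtype.rTensor AG w) =
          ψ (TensorProduct.lid k AG ((Coalgebra.counit (R := k)).rTensor AG ((B φ).subtype.rTensor AG w))) := fun w => by
        induction w using TensorProduct.induction_on with
        | zero => simp
        | add p q hp hq => simp only [map_add, hp, hq]
        | tmul p q =>
          simp only [Lm, LinearMap.rTensor_tmul, Submodule.subtype_apply, LinearMap.comp_apply, LinearEquiv.coe_coe,
            TensorProduct.map_tmul, TensorProduct.lid_tmul, hlB _ p.2]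
          exact (map_smul (ψ : AG →ₗ[k] AK) _ _).symm
      rw [key, hz', Coalgebra.rTensor_counit_comul]
      simp
    · obtain ⟨z, hz⟩ := hC c hc
      rw [show Δ c = C.subtype.rTensor AG z from hz.symm]
      clear hz
      induction z using TensorProduct.induction_on with
      | zero => simp
      | add p q hp hq => simp only [map_add, hp, hq, add_zero]
      | tmul p q => simp [Lm, hlC _ p.2]
  have hmul : ∀ (q : AQ) (a : AG), lam (φ q * a) = Coalgebra.counit (R := k) q * lam a := by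
    intro q a
    let ℓ : AG →ₗ[k] k := lam ∘ₗ LinearMap.mulLeft k (φ q)
    have hℓ : ∀ c : AG, TensorProduct.lid k AK (TensorProduct.map ℓ (ψ : AG →ₗ[k] AK) (Δ c)) = ℓ c • (1 : AK) := by
      intro c
      refine Eq.trans ?_ (hinv (φ q * c))
      rw [Bialgebra.comul_mul, comul_phi]
      have e : ∀ (w : AQ ⊗[k] AQ) (v : AG ⊗[k] AG),
          Lm (TensorProduct.map (φ : AQ →ₗ[k] AG) (φ : AQ →ₗ[k] AG) w * v) =
          TensorProduct.lid k AK (TensorProduct.map (lam ∘ₗ LinearMap.mulLeft k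
            (φ (TensorProduct.rid k AQ ((Coalgebra.counit (R := k)).lTensor AQ w)))) (ψ : AG →ₗ[k] AK) v) := by
        intro w v
        induction v using TensorProduct.induction_on with
        | zero => simp
        | add p r hp hr => simp only [mul_add, map_add, hp, hr]
        | tmul p r =>
          induction w using TensorProduct.induction_on with
          | zero => simp [Lm]
          | add u u' hu hu' =>
            rw [map_add, add_mul, map_add, hu, hu']
            simp only [map_add, TensorProduct.map_tmul, TensorProduct.lid_tmul, LinearMap.comp_apply,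
              LinearMap.mulLeft_apply, add_mul, add_smul]
          | tmul u u' =>
            simp only [Lm, TensorProduct.map_tmul, Algebra.TensorProduct.tmul_mul_tmul, LinearMap.comp_apply,
              LinearEquiv.coe_coe, TensorProduct.lid_tmul, LinearMap.lTensor_tmul, TensorProduct.rid_tmul,
              LinearMap.mulLeft_apply, map_smul, smul_mul_assoc]
            show lam (φ u * p) • ψ (φ u' * r) = _
            rw [show ψ (φ u' * r) = Coalgebra.counit (R := k) u' • ψ r by
              rw [map_mul, psi_phi hker, ← Algebra.smul_def], smul_smul, mul_comm]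
            rfl
      rw [e, Coalgebra.lTensor_counit_comul]
      simp [ℓ]
    have h0 : ∀ c ∈ C, ℓ c = 0 := fun c hc =>
      eq_zero_of_invariant hker hss hφ hψ hC hBC.disjoint ℓ (fun c _ => hℓ c) hc
    obtain ⟨b, hb, c, hc, rfl⟩ := Submodule.mem_sup.1 (hBC.codisjoint.eq_top ▸ Submodule.mem_top (x := a))
    have h1 : lam (φ q * c) = 0 := h0 c hc
    obtain ⟨r, rfl⟩ := hb
    rw [mul_add, map_add, map_add, h1, hlC c hc, add_zero, add_zero, show (φ : AQ →ₗ[k] AG) r = φ r from rfl,
      ← map_mul φ, hlB (φ (q * r)) ⟨q * r, rfl⟩, hlB (φ r) ⟨r, rfl⟩, CoalgHomClass.counit_comp_apply, CoalgHomClass.counit_comp_apply,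
      Bialgebra.counit_mul]
  have hker0 : LinearMap.ker (ψ : AG →ₗ[k] AK) ≤ LinearMap.ker lam := by
    intro x hx
    have hx' : x ∈ RingHom.ker (ψ : AG →ₐ[k] AK) := hx
    rw [hker] at hx'
    suffices ∀ r : AG, lam (r * x) = 0 by simpa using this 1
    clear hx
    induction hx' using Submodule.span_induction with
    | mem y hy =>
      obtain ⟨q, hq, rfl⟩ := hy
      intro r
      show lam (r * φ q) = 0
      rw [mul_comm, hmul, show Coalgebra.counit (R := k) q = 0 from hq, zero_mul]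
    | zero => intro r; simp
    | add y y' _ _ hy hy' => intro r; rw [mul_add, map_add, hy, hy', add_zero]
    | smul s y _ hy => intro r; rw [smul_eq_mul, ← mul_assoc]; exact hy _
  let α : AK →ₗ[k] k := (LinearMap.ker (ψ : AG →ₗ[k] AK)).liftQ lam hker0 ∘ₗ
    ((ψ : AG →ₗ[k] AK).quotKerEquivOfSurjective hψ).symm.toLinearMap
  have hα : ∀ a, α (ψ a) = lam a := fun a => by
    simp only [α, LinearMap.comp_apply, LinearEquiv.coe_coe]
    rw [show ((ψ : AG →ₗ[k] AK).quotKerEquivOfSurjective hψ).symm (ψ a) = Submodule.Quotient.mk a from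
      (LinearEquiv.symm_apply_eq _).2 rfl]
    rfl
  have hl1 : lam 1 = 1 := by
    rw [hlB 1 ⟨1, map_one φ⟩, Bialgebra.counit_one]
  refine ⟨α, fun y => ?_, by rw [← map_one ψ, hα, hl1]⟩
  obtain ⟨a, rfl⟩ := hψ y
  rw [comul_psi, hα]
  have e : ∀ w : AG ⊗[k] AG, α.rTensor AK (TensorProduct.map (ψ : AG →ₗ[k] AK) (ψ : AG →ₗ[k] AK) w) =
      (TensorProduct.lid k AK).symm (Lm w) := fun w => by
    induction w using TensorProduct.induction_on with
    | zero => simp
    | add p q hp hq => simp only [map_add, hp, hq]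
    | tmul p q =>
      show α (ψ p) ⊗ₜ[k] ψ q = (1 : k) ⊗ₜ[k] (lam p • ψ q)
      rw [hα, TensorProduct.tmul_smul, TensorProduct.smul_tmul', smul_eq_mul, mul_one]
  rw [e, hinv]
  show (1 : k) ⊗ₜ[k] (lam a • (1 : AK)) = _
  rw [TensorProduct.tmul_smul, TensorProduct.smul_tmul', smul_eq_mul, mul_one]

include hker in
theorem exists_integral_total (hφ : Function.Injective φ) (hψ : Function.Surjective ψ)
    {αK : AK →ₗ[k] k} (hK : IsIntegral k αK) (hK1 : αK 1 = 1)
    {αQ : AQ →ₗ[k] k} (hQ : IsIntegral k αQ) (hQ1 : αQ 1 = 1) :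
    ∃ α : AG →ₗ[k] k, IsIntegral k α ∧ α 1 = 1 := by
  let ℓ : AG →ₗ[k] k := αK ∘ₗ (ψ : AG →ₗ[k] AK)
  have hℓ : ∀ c ∈ (⊤ : Submodule k AG),
      TensorProduct.lid k AK (TensorProduct.map ℓ (ψ : AG →ₗ[k] AK) (Δ c)) = ℓ c • (1 : AK) := by
    intro c _
    have h := congrArg (TensorProduct.lid k AK) (hK (ψ c))
    rw [comul_psi, TensorProduct.lid_tmul] at h
    refine Eq.trans ?_ h
    congr 1
    rw [← LinearMap.comp_apply (f := αK.rTensor AK), LinearMap.rTensor_comp_map]
  have hmem : ∀ a, conv ℓ a ∈ B φ := fun a => by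
    refine mem_B_of_left hker hφ hψ (conv_left (C := ⊤) ℓ a
      (z := (Submodule.topEquiv.symm.toLinearMap.rTensor AG) (Δ a)) ?_ hℓ)
    rw [← LinearMap.comp_apply, ← LinearMap.rTensor_comp]
    exact DFunLike.congr_fun (LinearMap.rTensor_id AG AG) _
  let e := LinearEquiv.ofInjective (φ : AQ →ₗ[k] AG) hφ
  let g : AG →ₗ[k] AQ := e.symm.toLinearMap ∘ₗ LinearMap.codRestrict _ (conv ℓ) hmem
  have hg : ∀ a, φ (g a) = conv ℓ a := fun a =>
    congrArg Subtype.val (e.apply_symm_apply (LinearMap.codRestrict _ (conv ℓ) hmem a))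
  have hg1 : g 1 = 1 := hφ (by
    rw [hg, map_one φ]
    simp [conv, lin, Bialgebra.comul_one, Algebra.TensorProduct.one_def, ℓ, hK1])
  refine ⟨αQ ∘ₗ g, fun a => ?_, by rw [LinearMap.comp_apply, hg1, hQ1]⟩
  have h1 : TensorProduct.map (φ : AQ →ₗ[k] AG) LinearMap.id (g.rTensor AG (Δ a)) =
      TensorProduct.map (φ : AQ →ₗ[k] AG) LinearMap.id ((φ : AQ →ₗ[k] AG).lTensor AQ (Δ (g a))) := by
    have e1 : (φ : AQ →ₗ[k] AG) ∘ₗ g = conv ℓ := LinearMap.ext hg
    have e2 : ∀ w, TensorProduct.map (φ : AQ →ₗ[k] AG) LinearMap.id (g.rTensor AG w) = (conv ℓ).rTensor AG w := fun w => by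
      rw [← e1]
      induction w using TensorProduct.induction_on with
      | zero => simp
      | add p q hp hq => simp only [map_add, hp, hq]
      | tmul p q => rfl
    rw [e2, ← comul_conv, ← hg, comul_phi]
    induction Δ (g a) using TensorProduct.induction_on with
    | zero => simp
    | add p q hp hq => simp only [map_add, hp, hq]
    | tmul p q => rfl
  have h2 : g.rTensor AG (Δ a) = (φ : AQ →ₗ[k] AG).lTensor AQ (Δ (g a)) :=
    Module.Flat.rTensor_preserves_injective_linearMap (φ : AQ →ₗ[k] AG) hφ h1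
  rw [LinearMap.rTensor_comp, LinearMap.comp_apply, h2, LinearMap.comp_apply]
  have e4 : ∀ w : AQ ⊗[k] AQ, αQ.rTensor AG ((φ : AQ →ₗ[k] AG).lTensor AQ w) =
      (φ : AQ →ₗ[k] AG).lTensor k (αQ.rTensor AQ w) := fun w => by
    induction w using TensorProduct.induction_on with
    | zero => simp
    | add p q hp hq => simp only [map_add, hp, hq]
    | tmul p q => rfl
  rw [e4, hQ]
  show αQ (g a) ⊗ₜ[k] φ 1 = _
  rw [map_one φ]
  rfl

end Groth.Agent.LRExact
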